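import Groth.Agent.KDer46.Tr
import Mathlib.Algebra.Homology.DerivedCategory.TStructure
import Mathlib.Algebra.Homology.DerivedCategory.HomologySequence
import Mathlib.Algebra.Homology.DerivedCategory.SingleTriangle
import Mathlib.CategoryTheory.ObjectProperty.Kernels
import Mathlib.CategoryTheory.Triangulated.TStructure.TruncLTGE
import Mathlib.Algebra.BigOperators.Finprod
import Mathlib.Algebra.Homology.DerivedCategory.FullyFaithful
import Mathlib.Data.Int.Interval

/-!
`K₀` of an abelian category and of a triangulated category of complexes with cohomology in it.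
-/

set_option autoImplicit false
set_option linter.unusedSectionVars false
set_option linter.style.haveILetI false

universe w v u

open CategoryTheory CategoryTheory.Limits CategoryTheory.Pretriangulated DerivedCategory

namespace Groth.Agent.KDer46

variable {C : Type u} [Category.{v} C] [Abelian C]

section Ab

variable {P : ObjectProperty C}

theorem clSub_eq {X : C} (h : P X) :
    KZero.clSub P X = QuotientAddGroup.mk (FreeAbelianGroup.of ⟨X, h⟩) := dif_pos h

theorem clSub_add (S : ShortComplex C) (hS : S.ShortExact) (h₁ : P S.X₁) (h₂ : P S.X₂) (h₃ : P S.X₃) :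
    KZero.clSub P S.X₂ = KZero.clSub P S.X₁ + KZero.clSub P S.X₃ := by
  rw [clSub_eq h₁, clSub_eq h₂, clSub_eq h₃, ← sub_eq_zero, ← sub_sub, ← QuotientAddGroup.mk_sub,
    ← QuotientAddGroup.mk_sub, QuotientAddGroup.eq_zero_iff]
  exact AddSubgroup.subset_closure ⟨S, h₁, h₂, h₃, hS, rfl⟩

variable [P.IsClosedUnderIsomorphisms] [P.IsClosedUnderKernels]

theorem clSub_isZero {X : C} (hX : IsZero X) : KZero.clSub P X = 0 := by
  by_cases h : P X
  · let S : ShortComplex C := ShortComplex.mk (𝟙 X) (0 : X ⟶ X) comp_zero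
    have hS : S.ShortExact :=
      { exact := ShortComplex.exact_of_isZero_X₂ _ hX
        epi_g := ⟨fun g h _ => hX.eq_of_src g h⟩ }
    have e := clSub_add S hS h h h
    change KZero.clSub P X = KZero.clSub P X + KZero.clSub P X at e
    exact left_eq_add.1 e
  · exact dif_neg h

theorem clSub_iso {X Y : C} (e : X ≅ Y) : KZero.clSub P X = KZero.clSub P Y := by
  by_cases h : P X
  · have hY := P.prop_of_iso e h
    have hz : IsZero (kernel e.hom) := isZero_kernel_of_mono e.hom
    let S : ShortComplex C := ShortComplex.mk (kernel.ι e.hom) e.hom (kernel.condition _)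
    have hS : S.ShortExact :=
      { exact := ShortComplex.exact_of_f_is_kernel _ (kernelIsKernel e.hom) }
    have he := clSub_add S hS (P.prop_kernel e.hom h hY) h hY
    change KZero.clSub P X = KZero.clSub P (kernel e.hom) + KZero.clSub P Y at he
    rw [he, clSub_isZero hz, zero_add]
  · rw [show KZero.clSub P X = 0 from dif_neg h,
      show KZero.clSub P Y = 0 from dif_neg fun hY => h (P.prop_of_iso e.symm hY)]

theorem clSub_of_exact {A B D : C} (f : A ⟶ B) (g : B ⟶ D) (w : f ≫ g = 0)
    (h : (ShortComplex.mk f g w).Exact) (hA : P A) (hB : P B) (hD : P D) :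
    KZero.clSub P A = KZero.clSub P (kernel f) + KZero.clSub P (kernel g) := by
  haveI : Epi (kernel.lift g f w) := h.epi_kernelLift
  have hS : (ShortComplex.mk (kernel.ι f) (kernel.lift g f w) (by
      ext
      simp)).ShortExact :=
    { exact := by
        refine ShortComplex.exact_of_f_is_kernel _ ?_
        exact isKernelOfComp (kernel.ι g) f (kernelIsKernel f) _ (kernel.lift_ι _ _ _) }
  exact clSub_add _ hS (P.prop_kernel f hA hB) hA (P.prop_kernel g hB hD)

end Ab

variable [HasDerivedCategory.{w} C]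

/-- The hypotheses on a full subcategory of the derived category. -/
structure Good (P : ObjectProperty C) (T : ObjectProperty (DerivedCategory C)) : Prop where
  iso : ∀ {X Y : DerivedCategory C}, (X ≅ Y) → T X → T Y
  zero : ∀ {X : DerivedCategory C}, IsZero X → T X
  shift : ∀ (X : DerivedCategory C) (n : ℤ), T X → T (X⟦n⟧)
  single : ∀ X : C, P X → T ((singleFunctor C 0).obj X)
  obj₁ : ∀ Δ : Triangle (DerivedCategory C), Δ ∈ distinguishedTriangles →
    T Δ.obj₂ → T Δ.obj₃ → T Δ.obj₁
  homology : ∀ X, T X → ∀ i : ℤ, P ((homologyFunctor C i).obj X)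
  bounded : ∀ X, T X → ∃ a b : ℤ, X.IsGE a ∧ X.IsLE b

variable {P : ObjectProperty C} [P.IsClosedUnderIsomorphisms] [P.IsClosedUnderKernels]
  {T : ObjectProperty (DerivedCategory C)}

variable (P) in
/-- The summand of the Euler characteristic in one degree. -/
noncomputable def chiTerm (X : DerivedCategory C) (i : ℤ) : KZero.K0sub P :=
  (i.negOnePow : ℤ) • KZero.clSub P ((homologyFunctor C i).obj X)

theorem finite_support_chiTerm (X : DerivedCategory C) {a b : ℤ} [X.IsGE a] [X.IsLE b] :
    (Function.support (chiTerm P X)).Finite := by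
  refine (Set.finite_Icc a b).subset fun i hi => ?_
  by_contra h
  refine hi ?_
  rw [Set.mem_Icc, not_and_or, not_le, not_le] at h
  rw [chiTerm, clSub_isZero, smul_zero]
  rcases h with h | h
  exacts [isZero_of_isGE X a i h, isZero_of_isLE X b i h]

theorem finsum_chiTerm_single (X : C) :
    finsum (chiTerm P ((singleFunctor C 0).obj X)) = KZero.clSub P X := by
  rw [finsum_eq_single _ (0 : ℤ) fun i hi => ?_]
  · rw [chiTerm, Int.negOnePow_zero, Units.val_one, one_smul]
    exact clSub_iso ((singleFunctorCompHomologyFunctorIso C 0).app X)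
  · rw [chiTerm, clSub_isZero, smul_zero]
    rcases lt_or_gt_of_ne hi with h | h
    exacts [isZero_of_isGE _ 0 i h, isZero_of_isLE _ 0 i h]

theorem finsum_chiTerm_add (hT : Good P T) (Δ : Triangle (DerivedCategory C))
    (hΔ : Δ ∈ distinguishedTriangles) (h₁ : T Δ.obj₁) (h₂ : T Δ.obj₂) (h₃ : T Δ.obj₃) :
    finsum (chiTerm P Δ.obj₂) = finsum (chiTerm P Δ.obj₁) + finsum (chiTerm P Δ.obj₃) := by
  obtain ⟨a₁, b₁, ha₁, hb₁⟩ := hT.bounded _ h₁
  obtain ⟨a₂, b₂, ha₂, hb₂⟩ := hT.bounded _ h₂
  obtain ⟨a₃, b₃, ha₃, hb₃⟩ := hT.bounded _ h₃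
  have f₁ := finite_support_chiTerm (P := P) Δ.obj₁ (a := a₁) (b := b₁)
  have f₂ := finite_support_chiTerm (P := P) Δ.obj₂ (a := a₂) (b := b₂)
  have f₃ := finite_support_chiTerm (P := P) Δ.obj₃ (a := a₃) (b := b₃)
  let c : ℤ → KZero.K0sub P := fun i =>
    (i.negOnePow : ℤ) • KZero.clSub P (kernel ((homologyFunctor C i).map Δ.mor₁))
  have key : ∀ i, chiTerm P Δ.obj₁ i + chiTerm P Δ.obj₃ i - chiTerm P Δ.obj₂ i = c i - c (i + 1) := by
    intro i
    have p₁ := hT.homology _ h₁
    have p₂ := hT.homology _ h₂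
    have p₃ := hT.homology _ h₃
    have e₁ := clSub_of_exact _ _ _ (HomologySequence.exact₂ Δ hΔ i) (p₁ i) (p₂ i) (p₃ i)
    have e₂ := clSub_of_exact _ _ _ (HomologySequence.exact₃ Δ hΔ i (i + 1) rfl) (p₂ i) (p₃ i) (p₁ (i + 1))
    have e₃ := clSub_of_exact _ _ _ (HomologySequence.exact₁ Δ hΔ i (i + 1) rfl) (p₃ i) (p₁ (i + 1)) (p₂ (i + 1))
    simp only [chiTerm, c, Int.negOnePow_succ, Units.val_neg, neg_smul, sub_neg_eq_add,
      ← smul_add, ← smul_sub]
    rw [e₁, e₂, e₃]
    congr 1
    abel
  have fc : (Function.support c).Finite := by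
    refine (Set.finite_Icc a₁ b₁).subset fun i hi => ?_
    by_contra h
    refine hi ?_
    rw [Set.mem_Icc, not_and_or, not_le, not_le] at h
    have hz : IsZero ((homologyFunctor C i).obj Δ.obj₁) := by
      rcases h with h | h
      exacts [isZero_of_isGE _ a₁ i h, isZero_of_isLE _ b₁ i h]
    simp only [c]
    rw [clSub_isZero (IsZero.of_mono (kernel.ι ((homologyFunctor C i).map Δ.mor₁)) hz), smul_zero]
  have fc' : (Function.support fun i => c (i + 1)).Finite :=
    (fc.image fun i => i - 1).subset fun i hi => ⟨i + 1, hi, by simp⟩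
  have e := finsum_congr key
  have hc : (∑ᶠ i, c (i + 1)) = ∑ᶠ i, c i := finsum_comp_equiv (Equiv.addRight (1 : ℤ))
  rw [finsum_sub_distrib fc fc', hc, sub_self,
    finsum_sub_distrib ((f₁.union f₃).subset (Function.support_add _ _)) f₂,
    finsum_add_distrib f₁ f₃, sub_eq_zero] at e
  exact e.symm

/-- The Euler characteristic of the cohomology. -/
noncomputable def chi (hT : Good P T) : KZero.K0tr T →+ KZero.K0sub P :=
  QuotientAddGroup.lift _ (FreeAbelianGroup.lift fun X => finsum (chiTerm P X.1)) (by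
    rw [KZero.relTr, AddSubgroup.closure_le]
    rintro _ ⟨Δ, h₁, h₂, h₃, hΔ, rfl⟩
    rw [SetLike.mem_coe, AddMonoidHom.mem_ker, map_sub, map_sub, FreeAbelianGroup.lift_apply_of,
      FreeAbelianGroup.lift_apply_of, FreeAbelianGroup.lift_apply_of,
      finsum_chiTerm_add hT Δ hΔ h₁ h₂ h₃]
    abel)

theorem chi_clTr (hT : Good P T) {X : DerivedCategory C} (h : T X) :
    chi hT (KZero.clTr T X) = finsum (chiTerm P X) :=
  (congrArg (chi hT) (clTr_eq h)).trans (FreeAbelianGroup.lift_apply_of _ _)

/-- Placing an object in degree zero. -/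
noncomputable def inclHom (hT : Good P T) : KZero.K0sub P →+ KZero.K0tr T :=
  QuotientAddGroup.lift _ (FreeAbelianGroup.lift fun X => KZero.clTr T ((singleFunctor C 0).obj X.1)) (by
    rw [KZero.relSub, AddSubgroup.closure_le]
    rintro _ ⟨S, h₁, h₂, h₃, hS, rfl⟩
    rw [SetLike.mem_coe, AddMonoidHom.mem_ker, map_sub, map_sub, FreeAbelianGroup.lift_apply_of,
      FreeAbelianGroup.lift_apply_of, FreeAbelianGroup.lift_apply_of]
    have := clTr_triangle (P := T) hS.singleTriangle hS.singleTriangle_distinguished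
      (hT.single _ h₁) (hT.single _ h₂) (hT.single _ h₃)
    change KZero.clTr T ((singleFunctor C 0).obj S.X₂) = _ + _ at this
    rw [this]
    change (KZero.clTr T ((singleFunctor C 0).obj S.X₁) + KZero.clTr T ((singleFunctor C 0).obj S.X₃)) -
      KZero.clTr T ((singleFunctor C 0).obj S.X₁) - KZero.clTr T ((singleFunctor C 0).obj S.X₃) = 0
    abel)

theorem inclHom_clSub (hT : Good P T) {X : C} (h : P X) :
    inclHom hT (KZero.clSub P X) = KZero.clTr T ((singleFunctor C 0).obj X) :=
  (congrArg (inclHom hT) (clSub_eq h)).trans (FreeAbelianGroup.lift_apply_of _ _)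

theorem mem_range_inclHom (hT : Good P T) : ∀ (k : ℕ) (X : DerivedCategory C), T X →
    ∀ a : ℤ, X.IsGE a → X.IsLE (a + k - 1) → KZero.clTr T X ∈ (inclHom hT).range := by
  intro k
  induction k with
  | zero =>
    intro X hX a ha hb
    haveI : X.IsLE (a - 1) := by simpa using hb
    haveI := ha
    rw [clTr_isZero (P := T) hT.zero (TStructure.t.isZero X (a - 1) a (by omega))]
    exact zero_mem _
  | succ k ih =>
    intro X hX a ha hb
    let n : ℤ := a + k
    have hbn : X.IsLE n := by
      convert hb using 2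
      simp [n]
      omega
    let Δ := ((TStructure.t (C := C)).triangleLTGE n).obj X
    have hΔ : Δ ∈ distinguishedTriangles := TStructure.t.triangleLTGE_distinguished n X
    haveI hLE : Δ.obj₁.IsLE (n - 1) := inferInstanceAs (TStructure.t.IsLE _ (n - 1))
    haveI hGE : Δ.obj₃.IsGE n := inferInstanceAs (TStructure.t.IsGE _ n)
    have hlow : Δ.obj₁.IsGE a := (isGE_iff _ a).2 fun i hi => by
      refine (HomologySequence.exact₁ Δ hΔ (i - 1) i (by omega)).isZero_of_both_zeros ?_ ?_
      · exact (isZero_of_isGE Δ.obj₃ n (i - 1) (by omega)).eq_of_src _ _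
      · exact (isZero_of_isGE X a i hi).eq_of_tgt _ _
    have hhigh : Δ.obj₃.IsLE n := (isLE_iff _ n).2 fun i hi => by
      refine (HomologySequence.exact₃ Δ hΔ i (i + 1) rfl).isZero_of_both_zeros ?_ ?_
      · exact (isZero_of_isLE X n i hi).eq_of_src _ _
      · exact (isZero_of_isLE Δ.obj₁ (n - 1) (i + 1) (by omega)).eq_of_tgt _ _
    obtain ⟨M, ⟨e⟩⟩ := exists_iso_singleFunctor_obj_of_isGE_of_isLE Δ.obj₃ n
    have eH : (homologyFunctor C n).obj X ≅ M := by
      haveI : Mono ((homologyFunctor C n).map Δ.mor₂) :=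
        (HomologySequence.mono_homologyMap_mor₂_iff Δ hΔ n).2
          ((isZero_of_isLE Δ.obj₁ (n - 1) n (by omega)).eq_of_src _ _)
      haveI : Epi ((homologyFunctor C n).map Δ.mor₂) :=
        (HomologySequence.epi_homologyMap_mor₂_iff Δ hΔ n (n + 1) rfl).2
          ((isZero_of_isLE Δ.obj₁ (n - 1) (n + 1) (by omega)).eq_of_tgt _ _)
      haveI : IsIso ((homologyFunctor C n).map Δ.mor₂) := isIso_of_mono_of_epi _
      let i₂ : (homologyFunctor C n).obj Δ.obj₂ ≅ (homologyFunctor C n).obj Δ.obj₃ :=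
        asIso ((homologyFunctor C n).map Δ.mor₂)
      exact i₂ ≪≫ (homologyFunctor C n).mapIso e ≪≫
        (singleFunctorCompHomologyFunctorIso C n).app M
    have hM : P M := P.prop_of_iso eH (hT.homology X hX n)
    let e₃ : ((singleFunctor C 0).obj M)⟦-n⟧ ≅ Δ.obj₃ :=
      ((singleFunctors C).shiftIso (-n) n 0 (by omega)).app M ≪≫ e.symm
    have hin : InSubgroup T (inclHom hT).range ((singleFunctor C 0).obj M) :=
      ⟨hT.single M hM, ⟨KZero.clSub P M, inclHom_clSub hT hM⟩⟩
    have hsh := inSubgroup_shift (P := T) hT.zero hT.shift _ hin (-n)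
    have h₃ : T Δ.obj₃ := hT.iso e₃ hsh.1
    have h₁ : T Δ.obj₁ := hT.obj₁ Δ hΔ hX h₃
    rw [show KZero.clTr T X = _ from clTr_triangle (P := T) Δ hΔ h₁ hX h₃]
    refine add_mem (ih _ h₁ a hlow hLE) ?_
    rw [clTr_iso (P := T) hT.zero e₃ hsh.1 h₃]
    exact hsh.2

theorem exists_equiv (hT : Good P T) :
    ∃ φ : KZero.K0sub P ≃+ KZero.K0tr T,
      ∀ X : C, P X → φ (KZero.clSub P X) = KZero.clTr T ((singleFunctor C 0).obj X) := by
  have hleft : ∀ x, chi hT (inclHom hT x) = x := fun x => by
    obtain ⟨z, rfl⟩ := QuotientAddGroup.mk_surjective x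
    induction z using FreeAbelianGroup.induction_on with
    | zero => exact (congrArg (chi hT) (map_zero (inclHom hT))).trans (map_zero _)
    | of X =>
      rw [← clSub_eq X.2, inclHom_clSub hT X.2, chi_clTr hT (hT.single _ X.2), finsum_chiTerm_single]
    | neg z hz => rw [QuotientAddGroup.mk_neg, map_neg, map_neg, hz]
    | add y z hy hz => rw [QuotientAddGroup.mk_add, map_add, map_add, hy, hz]
  have hsurj : (inclHom hT).range = ⊤ := eq_top_of_forall_mem _ fun X hX => by
    obtain ⟨a, b, ha, hb⟩ := hT.bounded X hX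
    exact mem_range_inclHom hT (b + 1 - a).toNat X hX a ha
      (TStructure.t.isLE_of_le X b _ (by omega))
  refine ⟨AddEquiv.ofBijective (inclHom hT)
    ⟨Function.LeftInverse.injective hleft, AddMonoidHom.range_eq_top.1 hsurj⟩, fun X hX => ?_⟩
  exact inclHom_clSub hT hX

end Groth.Agent.KDer46
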