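import Groth.Agent.KDer46.Main
import Mathlib.CategoryTheory.ObjectProperty.Extensions

/-!
The bounded complexes with cohomology in a weak Serre subcategory form a good subcategory.
-/

set_option autoImplicit false
set_option linter.unusedSectionVars false
set_option linter.style.haveILetI false

universe w v u

open CategoryTheory CategoryTheory.Limits CategoryTheory.Pretriangulated DerivedCategory

namespace Groth.Agent.KDer46

variable {C : Type u} [Category.{v} C] [Abelian C] {P : ObjectProperty C}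
  [P.IsClosedUnderIsomorphisms] [P.IsClosedUnderKernels] [P.IsClosedUnderCokernels]
  [P.IsClosedUnderExtensions]

/-- In a five term exact sequence the middle term is an extension of a kernel by a cokernel. -/
theorem prop_of_exact₅ {A B D E F : C} (f : A ⟶ B) (g : B ⟶ D) (h : D ⟶ E) (k : E ⟶ F)
    {w₁ : f ≫ g = 0} {w₂ : g ≫ h = 0} {w₃ : h ≫ k = 0}
    (e₁ : (ShortComplex.mk f g w₁).Exact) (e₂ : (ShortComplex.mk g h w₂).Exact)
    (e₃ : (ShortComplex.mk h k w₃).Exact)
    (hA : P A) (hB : P B) (hE : P E) (hF : P F) : P D := by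
  haveI : Epi (kernel.lift h g w₂) := e₂.epi_kernelLift
  haveI : Epi (kernel.lift k h w₃) := e₃.epi_kernelLift
  have hw : f ≫ kernel.lift h g w₂ = 0 := by
    ext
    simp [w₁]
  have e₁' : (ShortComplex.mk f (kernel.lift h g w₂) hw).Exact := by
    let φ : ShortComplex.mk f (kernel.lift h g w₂) hw ⟶ ShortComplex.mk f g w₁ :=
      { τ₁ := 𝟙 _, τ₂ := 𝟙 _, τ₃ := kernel.ι h }
    exact (ShortComplex.exact_iff_of_epi_of_isIso_of_mono φ).2 e₁
  have hK : P (kernel h) :=
    P.prop_of_iso (IsColimit.coconePointUniqueUpToIso (cokernelIsCokernel f) e₁'.gIsCokernel)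
      (P.prop_cokernel f hA hB)
  have hS : (ShortComplex.mk (kernel.ι h) (kernel.lift k h w₃) (by
      ext
      simp)).ShortExact :=
    { exact := by
        refine ShortComplex.exact_of_f_is_kernel _ ?_
        exact isKernelOfComp (kernel.ι k) h (kernelIsKernel h) _ (kernel.lift_ι _ _ _) }
  exact P.prop_X₂_of_shortExact hS hK (P.prop_kernel k hE hF)

variable [HasDerivedCategory.{w} C]

variable (P) in
/-- Bounded objects with cohomology in `P`. -/
def Pbd : ObjectProperty (DerivedCategory C) :=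
  fun K => (∀ i : ℤ, P ((homologyFunctor C i).obj K)) ∧ ∃ a b : ℤ, K.IsGE a ∧ K.IsLE b

theorem pbd_iso {X Y : DerivedCategory C} (e : X ≅ Y) (h : Pbd P X) : Pbd P Y := by
  obtain ⟨hi, a, b, ha, hb⟩ := h
  exact ⟨fun i => P.prop_of_iso ((homologyFunctor C i).mapIso e) (hi i), a, b,
    TStructure.t.isGE_of_iso e a, TStructure.t.isLE_of_iso e b⟩

theorem pbd_zero [P.ContainsZero] {X : DerivedCategory C} (h : IsZero X) : Pbd P X :=
  ⟨fun i => P.prop_of_isZero (Functor.map_isZero _ h), 0, 0,
    TStructure.t.isGE_of_isZero h 0, TStructure.t.isLE_of_isZero h 0⟩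

theorem pbd_shift (X : DerivedCategory C) (n : ℤ) (h : Pbd P X) : Pbd P (X⟦n⟧) := by
  obtain ⟨hi, a, b, ha, hb⟩ := h
  refine ⟨fun i => P.prop_of_iso
    (((homologyFunctor C 0).shiftIso n i (n + i) rfl).app X).symm (hi (n + i)), a - n, b - n,
    TStructure.t.isGE_shift X a n (a - n) (by omega), TStructure.t.isLE_shift X b n (b - n) (by omega)⟩

theorem pbd_single [P.ContainsZero] (X : C) (h : P X) : Pbd P ((singleFunctor C 0).obj X) := by
  refine ⟨fun i => ?_, 0, 0, inferInstance, inferInstance⟩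
  rcases lt_trichotomy i 0 with hi | rfl | hi
  · exact P.prop_of_isZero (isZero_of_isGE _ 0 i hi)
  · exact P.prop_of_iso ((singleFunctorCompHomologyFunctorIso C 0).app X).symm h
  · exact P.prop_of_isZero (isZero_of_isLE _ 0 i hi)

theorem pbd_obj₁ (Δ : Triangle (DerivedCategory C)) (hΔ : Δ ∈ distinguishedTriangles)
    (h₂ : Pbd P Δ.obj₂) (h₃ : Pbd P Δ.obj₃) : Pbd P Δ.obj₁ := by
  obtain ⟨p₂, a₂, b₂, ha₂, hb₂⟩ := h₂
  obtain ⟨p₃, a₃, b₃, ha₃, hb₃⟩ := h₃
  refine ⟨fun i => prop_of_exact₅ _ _ _ _ (HomologySequence.exact₃ Δ hΔ (i - 1) i (by omega))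
    (HomologySequence.exact₁ Δ hΔ (i - 1) i (by omega)) (HomologySequence.exact₂ Δ hΔ i)
    (p₂ (i - 1)) (p₃ (i - 1)) (p₂ i) (p₃ i), min a₂ a₃, max b₂ b₃ + 1, ?_, ?_⟩
  · refine (isGE_iff _ _).2 fun i hi => ?_
    refine (HomologySequence.exact₁ Δ hΔ (i - 1) i (by omega)).isZero_of_both_zeros ?_ ?_
    · exact (isZero_of_isGE Δ.obj₃ a₃ (i - 1) (by omega)).eq_of_src _ _
    · exact (isZero_of_isGE Δ.obj₂ a₂ i (by omega)).eq_of_tgt _ _
  · refine (isLE_iff _ _).2 fun i hi => ?_
    refine (HomologySequence.exact₁ Δ hΔ (i - 1) i (by omega)).isZero_of_both_zeros ?_ ?_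
    · exact (isZero_of_isLE Δ.obj₃ b₃ (i - 1) (by omega)).eq_of_src _ _
    · exact (isZero_of_isLE Δ.obj₂ b₂ i (by omega)).eq_of_tgt _ _

theorem good_pbd [P.ContainsZero] : Good P (Pbd P) where
  iso := pbd_iso
  zero := pbd_zero
  shift := pbd_shift
  single := pbd_single
  obj₁ := pbd_obj₁
  homology := fun _ h => h.1
  bounded := fun _ h => h.2

end Groth.Agent.KDer46

namespace Groth.Agent.KDer46

variable {C : Type u} [Category.{v} C] [Abelian C]

instance : (⊤ : ObjectProperty C).IsClosedUnderIsomorphisms := ⟨fun _ _ => trivial⟩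

instance : (⊤ : ObjectProperty C).IsClosedUnderKernels := ⟨fun _ _ => trivial⟩

instance : (⊤ : ObjectProperty C).IsClosedUnderCokernels := ⟨fun _ _ => trivial⟩

/-- `K₀` of an abelian category is `K₀` of its improper full subcategory. -/
noncomputable def k0EquivTop : KZero.K0 C ≃+ KZero.K0sub (⊤ : ObjectProperty C) := by
  let f : KZero.K0 C →+ KZero.K0sub (⊤ : ObjectProperty C) :=
    QuotientAddGroup.lift _ (FreeAbelianGroup.lift fun X => KZero.clSub ⊤ X) (by
      rw [KZero.relAb, AddSubgroup.closure_le]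
      rintro _ ⟨S, hS, rfl⟩
      rw [SetLike.mem_coe, AddMonoidHom.mem_ker, map_sub, map_sub, FreeAbelianGroup.lift_apply_of,
        FreeAbelianGroup.lift_apply_of, FreeAbelianGroup.lift_apply_of,
        clSub_add S hS trivial trivial trivial]
      abel)
  let g : KZero.K0sub (⊤ : ObjectProperty C) →+ KZero.K0 C :=
    QuotientAddGroup.lift _ (FreeAbelianGroup.lift fun X => KZero.cl X.1) (by
      rw [KZero.relSub, AddSubgroup.closure_le]
      rintro _ ⟨S, h₁, h₂, h₃, hS, rfl⟩
      rw [SetLike.mem_coe, AddMonoidHom.mem_ker, map_sub, map_sub, FreeAbelianGroup.lift_apply_of,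
        FreeAbelianGroup.lift_apply_of, FreeAbelianGroup.lift_apply_of, KZero.cl, KZero.cl, KZero.cl,
        ← QuotientAddGroup.mk_sub, ← QuotientAddGroup.mk_sub, QuotientAddGroup.eq_zero_iff]
      exact AddSubgroup.subset_closure ⟨S, hS, rfl⟩)
  have hgf : ∀ x, g (f x) = x := fun x => by
    obtain ⟨z, rfl⟩ := QuotientAddGroup.mk_surjective x
    induction z using FreeAbelianGroup.induction_on with
    | zero => exact (congrArg g (map_zero f)).trans (map_zero g)
    | of X =>
      refine (congrArg g (FreeAbelianGroup.lift_apply_of _ _)).trans ?_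
      refine (congrArg g (clSub_eq (P := ⊤) (X := X) trivial)).trans ?_
      exact FreeAbelianGroup.lift_apply_of _ _
    | neg z hz => rw [QuotientAddGroup.mk_neg, map_neg, map_neg, hz]
    | add y z hy hz => rw [QuotientAddGroup.mk_add, map_add, map_add, hy, hz]
  have hfg : ∀ x, f (g x) = x := fun x => by
    obtain ⟨z, rfl⟩ := QuotientAddGroup.mk_surjective x
    induction z using FreeAbelianGroup.induction_on with
    | zero => exact (congrArg f (map_zero g)).trans (map_zero f)
    | of X =>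
      refine (congrArg f (FreeAbelianGroup.lift_apply_of _ _)).trans ?_
      exact (FreeAbelianGroup.lift_apply_of _ _).trans (clSub_eq (P := ⊤) X.2)
    | neg z hz => rw [QuotientAddGroup.mk_neg, map_neg, map_neg, hz]
    | add y z hy hz => rw [QuotientAddGroup.mk_add, map_add, map_add, hy, hz]
  exact { f with invFun := g, left_inv := hgf, right_inv := hfg }

theorem k0EquivTop_cl (X : C) :
    k0EquivTop (KZero.cl X) = KZero.clSub (⊤ : ObjectProperty C) X :=
  FreeAbelianGroup.lift_apply_of _ _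

end Groth.Agent.KDer46

namespace Groth.Agent.KDer46

variable {C : Type u} [Category.{v} C] [Abelian C]

theorem isClosedUnderKernels_of (P : ObjectProperty C) [P.IsClosedUnderIsomorphisms]
    (h : ∀ {X Y : C} (f : X ⟶ Y), P X → P Y → P (kernel f)) : P.IsClosedUnderKernels :=
  ⟨fun _ ⟨f, _, hk, hf⟩ =>
    P.prop_of_iso (IsLimit.conePointUniqueUpToIso (kernelIsKernel f) hk) (h f hf.1 hf.2)⟩

theorem isClosedUnderCokernels_of (P : ObjectProperty C) [P.IsClosedUnderIsomorphisms]
    (h : ∀ {X Y : C} (f : X ⟶ Y), P X → P Y → P (cokernel f)) : P.IsClosedUnderCokernels :=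
  ⟨fun _ ⟨f, _, hk, hf⟩ =>
    P.prop_of_iso (IsColimit.coconePointUniqueUpToIso (cokernelIsCokernel f) hk) (h f hf.1 hf.2)⟩

end Groth.Agent.KDer46
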