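import Groth.Prelude.Def_KZero

/-!
Elementary properties of `K₀` of a full triangulated subcategory.
-/

set_option autoImplicit false

open CategoryTheory CategoryTheory.Limits CategoryTheory.Pretriangulated
open scoped ZeroObject

namespace Groth.Agent.KDer46

section General

universe v w

variable {D : Type w} [Category.{v} D] [Preadditive D] [HasZeroObject D] [HasShift D ℤ]
  [∀ n : ℤ, (shiftFunctor D n).Additive] [Pretriangulated D] {P : ObjectProperty D}

theorem clTr_eq {X : D} (h : P X) :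
    KZero.clTr P X = QuotientAddGroup.mk (FreeAbelianGroup.of ⟨X, h⟩) := dif_pos h

theorem clTr_triangle (T : Triangle D) (hT : T ∈ distinguishedTriangles) (h₁ : P T.obj₁)
    (h₂ : P T.obj₂) (h₃ : P T.obj₃) :
    KZero.clTr P T.obj₂ = KZero.clTr P T.obj₁ + KZero.clTr P T.obj₃ := by
  rw [clTr_eq h₁, clTr_eq h₂, clTr_eq h₃, ← sub_eq_zero, ← sub_sub, ← QuotientAddGroup.mk_sub,
    ← QuotientAddGroup.mk_sub, QuotientAddGroup.eq_zero_iff]
  exact AddSubgroup.subset_closure ⟨T, h₁, h₂, h₃, hT, rfl⟩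

theorem clTr_isZero (hP : ∀ {X : D}, IsZero X → P X) {X : D} (h : IsZero X) :
    KZero.clTr P X = 0 := by
  have e := clTr_triangle (P := P) (contractibleTriangle X) (contractible_distinguished X) (hP h) (hP h)
    (hP (isZero_zero D))
  change KZero.clTr P X = KZero.clTr P X + KZero.clTr P (0 : D) at e
  have e' := left_eq_add.1 e
  have e₂ := clTr_triangle (P := P) _ (isomorphic_distinguished _ (contractible_distinguished X)
    (Triangle.mk (0 : X ⟶ (0 : D)) (0 : (0 : D) ⟶ (0 : D)) 0)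
    (Triangle.isoMk _ _ (Iso.refl X) (h.iso (isZero_zero D)).symm (Iso.refl _)
      (h.eq_of_src _ _) ((isZero_zero D).eq_of_src _ _) ((isZero_zero D).eq_of_src _ _)))
    (hP h) (hP (isZero_zero D)) (hP (isZero_zero D))
  change KZero.clTr P (0 : D) = KZero.clTr P X + KZero.clTr P (0 : D) at e₂
  rw [e', add_zero] at e₂
  exact e₂.symm

theorem clTr_iso (hP : ∀ {X : D}, IsZero X → P X) {X Y : D} (e : X ≅ Y) (hX : P X) (hY : P Y) :
    KZero.clTr P Y = KZero.clTr P X := by
  have hT : Triangle.mk e.hom (0 : Y ⟶ 0) 0 ∈ distTriang D :=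
    isomorphic_distinguished _ (contractible_distinguished X) _
      (Triangle.isoMk (Triangle.mk e.hom (0 : Y ⟶ 0) 0) (contractibleTriangle X) (Iso.refl X) e.symm
        (Iso.refl (0 : D))
        (by exact (e.hom_inv_id).trans (Category.comp_id _).symm)
        (by exact zero_comp.trans comp_zero.symm) (by exact zero_comp.trans comp_zero.symm))
  have h := clTr_triangle (P := P) _ hT hX hY (hP (isZero_zero D))
  change KZero.clTr P Y = KZero.clTr P X + KZero.clTr P (0 : D) at h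
  rw [clTr_isZero hP (isZero_zero D), add_zero] at h
  exact h

theorem clTr_shift_one (hP : ∀ {X : D}, IsZero X → P X) {X : D} (hX : P X) (hX' : P (X⟦(1 : ℤ)⟧)) :
    KZero.clTr P (X⟦(1 : ℤ)⟧) = -KZero.clTr P X := by
  have h := clTr_triangle (P := P) _ (rot_of_distTriang _ (contractible_distinguished X))
    hX (hP (isZero_zero D)) hX'
  change KZero.clTr P (0 : D) = KZero.clTr P X + KZero.clTr P (X⟦(1 : ℤ)⟧) at h
  rw [clTr_isZero hP (isZero_zero D)] at h
  exact eq_neg_of_add_eq_zero_right h.symm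

variable (P) in
/-- Objects of `P` with class in a subgroup. -/
def InSubgroup (H : AddSubgroup (KZero.K0tr P)) (X : D) : Prop := P X ∧ KZero.clTr P X ∈ H

theorem inSubgroup_shift (hP : ∀ {X : D}, IsZero X → P X)
    (hsh : ∀ (X : D) (n : ℤ), P X → P (X⟦n⟧)) (H : AddSubgroup (KZero.K0tr P)) {X : D}
    (h : InSubgroup P H X) (n : ℤ) : InSubgroup P H (X⟦n⟧) := by
  refine ⟨hsh X n h.1, ?_⟩
  induction n with
  | zero =>
    rw [clTr_iso hP ((shiftFunctorZero D ℤ).app X).symm h.1 (hsh X _ h.1)]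
    exact h.2
  | succ k ih =>
    have e : (X⟦(k : ℤ)⟧)⟦(1 : ℤ)⟧ ≅ X⟦(k : ℤ) + 1⟧ := ((shiftFunctorAdd D (k : ℤ) 1).app X).symm
    rw [clTr_iso hP e (hsh _ 1 (hsh X _ h.1)) (hsh X _ h.1),
      clTr_shift_one hP (hsh X _ h.1) (hsh _ 1 (hsh X _ h.1))]
    exact H.neg_mem ih
  | pred k ih =>
    have e : (X⟦-(k : ℤ) - 1⟧)⟦(1 : ℤ)⟧ ≅ X⟦-(k : ℤ)⟧ :=
      ((shiftFunctorAdd' D (-(k : ℤ) - 1) 1 (-(k : ℤ)) (by omega)).app X).symm
    rw [clTr_iso hP e (hsh _ 1 (hsh X _ h.1)) (hsh X _ h.1),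
      clTr_shift_one hP (hsh X _ h.1) (hsh _ 1 (hsh X _ h.1))] at ih
    exact H.neg_mem_iff.1 ih

theorem eq_top_of_forall_mem (H : AddSubgroup (KZero.K0tr P))
    (h : ∀ X, P X → KZero.clTr P X ∈ H) : H = ⊤ := by
  refine eq_top_iff.2 fun x hx => ?_
  clear hx
  obtain ⟨z, rfl⟩ := QuotientAddGroup.mk_surjective x
  induction z using FreeAbelianGroup.induction_on with
  | zero => exact H.zero_mem
  | of X => exact clTr_eq X.2 ▸ h X.1 X.2
  | neg X hX => exact H.neg_mem hX
  | add x y hx hy => exact H.add_mem hx hy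

end General

end Groth.Agent.KDer46
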